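import Cfsg.Agent.H508.XR.Defs
import Cfsg.Agent.OddHalf.Known

/-!
# S4791 + S4927: definitions of the reduction layer, part 2

* `kJ p M G` : the number of almost `p`-rational characters in the principal block;
* `nr`, `rr` : the number of members of `X₀(G)` which are not (are) rational on the `p`-elements;
* `ExtY` : `ExtX` without the rationality;
* `RowsX` : all rows, `p ≥ 11`.
-/

set_option autoImplicit false

open Cfsg Subgroup
open Cfsg.Agent.H674.XZ
open scoped ComplexConjugate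

namespace Cfsg.Agent.H508.XR

universe u

/-- the number of almost `p`-rational characters in the principal block -/
noncomputable def kJ (p : ℕ) (M : Ideal AlgInt) (G : Type u) [Group G] : ℕ :=
  Nat.card {χ : IrrCharacter G // χ ∈ principalBlock M G ∧ Alm p (χ : G → ℂ)}

/-- the members of `X₀(G)` which are not rational on `p`-elements -/
noncomputable def nr (p : ℕ) (M : Ideal AlgInt) (G : Type u) [Group G] : ℕ :=
  Nat.card {χ : IrrCharacter G // Mem0 p M χ ∧ ¬ PRat p χ}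

/-- the members of `X₀(G)` which are rational on `p`-elements -/
noncomputable def rr (p : ℕ) (M : Ideal AlgInt) (G : Type u) [Group G] : ℕ :=
  Nat.card {χ : IrrCharacter G // Mem0 p M χ ∧ PRat p χ}

/-- `ExtX` without rationality -/
def ExtY (p : ℕ) (M : Ideal AlgInt) (S : Type u) [Group S] (R : ℕ) : Prop :=
  ∀ (A : Type u) [Group A] [Finite A] (f : S →* A), Function.Injective f → f.range.Normal →
    centralizer (f.range : Set A) = ⊥ → ¬ p ∣ f.range.index →
    ∃ ψ : Fin R → IrrCharacter A, (∀ i, Mem0 p M (ψ i) ∧ IsIrrCharacter S (fun s => (ψ i : A → ℂ) (f s))) ∧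
      ∀ i j, (∀ s : S, (ψ i : A → ℂ) (f s) = (ψ j : A → ℂ) (f s)) → i = j

theorem ExtX.extY {p : ℕ} {M : Ideal AlgInt} {S : Type u} [Group S] {R : ℕ} (h : ExtX p M S R) : ExtY p M S R := by
  intro A _ _ f h1 h2 h3 h4
  obtain ⟨ψ, h5, h6⟩ := h A f h1 h2 h3 h4
  exact ⟨ψ, fun i => ⟨(h5 i).1, (h5 i).2.2⟩, h6⟩

/-- the noncyclic case -/
abbrev NC (p : ℕ) (S : Type u) [Group S] : Prop := ∀ P : Sylow p S, ¬ IsCyclic (P : Subgroup S)

/-- all rows, `p ≥ 11` -/
structure RowsX (p : ℕ) (M : Ideal AlgInt) : Prop where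
  cyc : ∀ (A : Type u) [Group A] [Finite A] (S : Subgroup A) [S.Normal], ¬ p ∣ S.index → IsSimpleGroup S →
    ¬ IsMulCommutative S → p ∣ Nat.card S → ∀ P : Sylow p S, IsCyclic (P : Subgroup S) → GoodX p M S 2
  alt : ∀ (S : Type u) [Group S] [Finite S] [IsSimpleGroup S] (m : ℕ), 5 ≤ m → Nonempty (S ≃* alternatingGroup (Fin m)) →
    NC p S → RowX p M S
  spor : ∀ (S : Type u) [Group S] [Finite S] [IsSimpleGroup S], IsSporadicGroup S → NC p S → RowX p M S
  tits : ∀ (S : Type u) [Group S] [Finite S] [IsSimpleGroup S], Lie.IsoTits S → NC p S → RowX p M S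
  own : ∀ (S : Type u) [Group S] [Finite S] [IsSimpleGroup S], IsLieTypeChar p S → NC p S → RowX p M S
  psl : ∀ (r : ℕ) [Fact r.Prime], r ≠ p → ∀ (S : Type u) [Group S] [Finite S] [IsSimpleGroup S], IsPSLChar r S → NC p S →
    RowX p M S
  psp : ∀ (r : ℕ) [Fact r.Prime], r ≠ p → ∀ (S : Type u) [Group S] [Finite S] [IsSimpleGroup S], IsPSpChar r S → NC p S →
    RowX p M S
  psu : ∀ (r : ℕ) [Fact r.Prime], r ≠ p → ∀ (S : Type u) [Group S] [Finite S] [IsSimpleGroup S], IsPSUChar r S → NC p S →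
    RowX p M S
  oOdd : ∀ (r : ℕ) [Fact r.Prime], r ≠ p → ∀ (S : Type u) [Group S] [Finite S] [IsSimpleGroup S], IsPOmegaOddChar r S →
    NC p S → RowX p M S
  oPlus : ∀ (r : ℕ) [Fact r.Prime], r ≠ p → ∀ (S : Type u) [Group S] [Finite S] [IsSimpleGroup S] (F : Type) [Field F]
    [Fintype F] [CharP F r] (m : ℕ), 5 ≤ m → Nonempty (S ≃* POmega F (quadFormPlus m F)) → NC p S → RowX p M S
  oPlus4 : ∀ (r : ℕ) [Fact r.Prime], r ≠ p → ∀ (S : Type u) [Group S] [Finite S] [IsSimpleGroup S] (F : Type) [Field F]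
    [Fintype F] [CharP F r], Nonempty (S ≃* POmega F (quadFormPlus 4 F)) → NC p S → RowX p M S
  oMinus : ∀ (r : ℕ) [Fact r.Prime], r ≠ p → ∀ (S : Type u) [Group S] [Finite S] [IsSimpleGroup S], IsPOmegaMinusChar r S →
    NC p S → RowX p M S
  g2 : ∀ (r : ℕ) [Fact r.Prime], r ≠ p → ∀ (S : Type u) [Group S] [Finite S] [IsSimpleGroup S] (F : Type) [Field F]
    [Fintype F] [CharP F r], 3 ≤ Fintype.card F → Nonempty (S ≃* Lie.chevG2.group F) → NC p S → RowX p M S
  f4 : ∀ (r : ℕ) [Fact r.Prime], r ≠ p → ∀ (S : Type u) [Group S] [Finite S] [IsSimpleGroup S] (F : Type) [Field F]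
    [Fintype F] [CharP F r], Nonempty (S ≃* Lie.chevF4.group F) → NC p S → RowX p M S
  e6 : ∀ (r : ℕ) [Fact r.Prime], r ≠ p → ∀ (S : Type u) [Group S] [Finite S] [IsSimpleGroup S] (F : Type) [Field F]
    [Fintype F] [CharP F r], Nonempty (S ≃* Lie.chevE6.group F) → NC p S → RowX p M S
  e7 : ∀ (r : ℕ) [Fact r.Prime], r ≠ p → ∀ (S : Type u) [Group S] [Finite S] [IsSimpleGroup S] (F : Type) [Field F]
    [Fintype F] [CharP F r], Nonempty (S ≃* Lie.chevE7.group F) → NC p S → RowX p M S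
  e8 : ∀ (r : ℕ) [Fact r.Prime], r ≠ p → ∀ (S : Type u) [Group S] [Finite S] [IsSimpleGroup S] (F : Type) [Field F]
    [Fintype F] [CharP F r], Nonempty (S ≃* Lie.chevE8.group F) → NC p S → RowX p M S
  te6 : ∀ (r : ℕ) [Fact r.Prime], r ≠ p → ∀ (S : Type u) [Group S] [Finite S] [IsSimpleGroup S] (F : Type) [Field F]
    [Fintype F] [CharP F r] (q : ℕ), IsPrimePow q → Fintype.card F = q ^ 2 → Nonempty (S ≃* Lie.twistedE6 F q) → NC p S →
    RowX p M S
  td4 : ∀ (r : ℕ) [Fact r.Prime], r ≠ p → ∀ (S : Type u) [Group S] [Finite S] [IsSimpleGroup S] (F : Type) [Field F]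
    [Fintype F] [CharP F r] (q : ℕ), IsPrimePow q → Fintype.card F = q ^ 3 → Nonempty (S ≃* Lie.twistedD4 F q) → NC p S →
    RowX p M S
  sz : ∀ (S : Type u) [Group S] [Finite S] [IsSimpleGroup S], Lie.IsoSuzuki S → NC p S → RowX p M S
  ree : ∀ (S : Type u) [Group S] [Finite S] [IsSimpleGroup S], Lie.IsoRee S → NC p S → RowX p M S
  tf4 : ∀ (S : Type u) [Group S] [Finite S] [IsSimpleGroup S], Lie.Iso2F4 S → NC p S → RowX p M S

end Cfsg.Agent.H508.XR
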