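import Cfsg.Agent.H508.KB.Defs
import Cfsg.Agent.H674.XZ.Gal

/-!
# S4791 + S4927: definitions of the reduction layer

`X₀(G)` = `{χ // Mem0 p M χ}` (principal block, degree prime to `p`, almost `p`-rational), `x0 p M G` its cardinality
(`H674.XZ`). `A` is a group with a normal subgroup `S` of index prime to `p`.

* `kapX p M S` : the number of `A`-orbits on `X₀(S)`;
* `ker M S` (`H508.KB`) : the number of irreducible characters of `A` in the principal block with `S` in the kernel;
* `GoodN` : the inequality needed for minimal normal subgroups which are direct powers `S ^ t`, `t₀ ≤ t`;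
* `RowX` : `GoodX` with `t₀ = 1` for all almost simple groups with socle isomorphic to `S`.
-/

set_option autoImplicit false

open Cfsg Subgroup
open Cfsg.Agent.H674.XZ
open scoped ComplexConjugate

namespace Cfsg.Agent.H508.XR

universe u

/-- the arithmetic part of `GoodX` (strict) -/
def GoodN (t₀ p K f κ : ℕ) : Prop := ∀ t g n : ℕ, t₀ ≤ t → 1 ≤ t → f ≤ t * g →
  K + (κ + t - 1).choose t + g ≤ n + f + κ → 4 * (p - 1) < n ^ 2

section normal

variable {A : Type u} [Group A] (p : ℕ) (M : Ideal AlgInt) (S : Subgroup A) [S.Normal]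

/-- conjugation by `A` on `X₀(S)` -/
def orbSetoid : Setoid {χ : IrrCharacter S // Mem0 p M χ} where
  r χ ψ := ∃ a : A, ∀ s : S, (ψ.1 : S → ℂ) s = (χ.1 : S → ℂ) (MulAut.conjNormal a s)
  iseqv := by
    refine ⟨fun χ => ⟨1, fun s => by rw [map_one]; rfl⟩, ?_, ?_⟩
    · rintro χ ψ ⟨a, h⟩
      refine ⟨a⁻¹, fun s => ?_⟩
      rw [h, ← MulAut.mul_apply, ← map_mul, mul_inv_cancel, map_one]
      rfl
    · rintro χ ψ θ ⟨a, h⟩ ⟨b, h'⟩
      refine ⟨a * b, fun s => ?_⟩
      rw [h', h, ← MulAut.mul_apply, ← map_mul]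

/-- the number of `A`-orbits on `X₀(S)` -/
noncomputable def kapX : ℕ := Nat.card (Quotient (orbSetoid p M S))

/-- the inequality for `(A, S)` and all `t ≥ t₀` -/
def GoodX (t₀ : ℕ) : Prop := GoodN t₀ p (x0 p M A) (KB.ker M S) (kapX p M S)

end normal

/-- `GoodX` with `t₀ = 1` for all almost simple groups with socle isomorphic to `S` -/
def RowX (p : ℕ) (M : Ideal AlgInt) (S : Type u) [Group S] : Prop :=
  ∀ (A : Type u) [Group A] [Finite A] (T : Subgroup A) [T.Normal], Nonempty (S ≃* ↥T) →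
    centralizer (T : Set A) = ⊥ → ¬ p ∣ T.index → GoodX p M T 1

/-- rational on the elements of `p`-power order -/
def PRat (p : ℕ) {G : Type u} [Group G] (χ : IrrCharacter G) : Prop :=
  ∀ g : G, (∃ k, orderOf g = p ^ k) → ∀ j : ℕ, ¬ p ∣ j → (χ : G → ℂ) (g ^ j) = (χ : G → ℂ) g

/-- every almost simple group `A` with socle isomorphic to `S` (and index prime to `p`) has `R` members of `X₀(A)`
which are rational on `p`-elements and whose restrictions to `S` are irreducible and different (the trivial character is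
allowed as one of them) -/
def ExtX (p : ℕ) (M : Ideal AlgInt) (S : Type u) [Group S] (R : ℕ) : Prop :=
  ∀ (A : Type u) [Group A] [Finite A] (f : S →* A), Function.Injective f → f.range.Normal →
    centralizer (f.range : Set A) = ⊥ → ¬ p ∣ f.range.index →
    ∃ ψ : Fin R → IrrCharacter A, (∀ i, Mem0 p M (ψ i) ∧ PRat p (ψ i) ∧ IsIrrCharacter S (fun s => (ψ i : A → ℂ) (f s))) ∧
      ∀ i j, (∀ s : S, (ψ i : A → ℂ) (f s) = (ψ j : A → ℂ) (f s)) → i = j

/-- `S` has `R` pairwise disjoint sets of irreducible characters, stable under `Aut(S)`, each of them containing a member of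
`X₀(S)` -/
def Disj (p : ℕ) (M : Ideal AlgInt) (S : Type u) [Group S] (R : ℕ) : Prop :=
  ∃ X : Fin R → Set (IrrCharacter S), (∀ i j, i ≠ j → Disjoint (X i) (X j)) ∧
    (∀ i, ∃ χ ∈ X i, Mem0 p M χ) ∧
    ∀ i, ∀ χ ∈ X i, ∀ χ' : IrrCharacter S, ∀ α : MulAut S, (∀ s, (χ' : S → ℂ) s = (χ : S → ℂ) (α s)) → χ' ∈ X i

end Cfsg.Agent.H508.XR
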