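import Cfsg.Agent.H508.XR.FinA
import Cfsg.Agent.H697.XZ.Affine
import Cfsg.Agent.H292.XZ.Cyc
import Cfsg.Agent.H875.XD.Row
import Cfsg.Agent.H629.XR.RowMFin
import Cfsg.Agent.H852.XG.Row
import Cfsg.Agent.H985.XR.RowE6
import Cfsg.Agent.H97.XR.TwFRow
import Cfsg.Agent.H322.XR.RowF4
import Cfsg.Agent.H214.XR.RowE7
import Cfsg.Agent.H703.XZ.RowE8
import Cfsg.Agent.H695.XP.Final
import Cfsg.Agent.H501.XZ.Main
import Cfsg.Agent.H482.XE.Row2E6
import Cfsg.Agent.H719.XZ.RowU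
import Cfsg.Agent.H712.XZ.RowOwn

/-!
# S4791 + S4927: the rows, part B (everything except `PSp`, odd orthogonal groups, `POmega⁻` and `POmega⁺`, `m ≥ 5`)
-/

set_option autoImplicit false

open Cfsg Subgroup
open Cfsg.Agent.H674.XZ
open Cfsg.Agent.H668.XZ (Row0 Cnt)

namespace Cfsg.Agent.H508.XR

universe u

/-- the affine case -/
theorem affine {p : ℕ} [Fact p.Prime] {M : Ideal AlgInt} (hM : IsPModular p M) : Affine.{u} p M := by
  intro G _ _ N _ h1 h2 h3 h4 h5 h6 h7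
  refine H697.XZ.affine_case hM G N h1 h2 h3 h4 h5 h6 ?_
  intro hc
  refine h7 (IsPGroup.toSylow h4 h6) ?_
  exact hc

variable {p : ℕ} [Fact p.Prime] {M : Ideal AlgInt}

/-- the open rows -/
structure RestY (p : ℕ) (M : Ideal AlgInt) : Prop where
  psp : ∀ (r : ℕ) [Fact r.Prime], r ≠ p → ∀ (S : Type u) [Group S] [Finite S] [IsSimpleGroup S], IsPSpChar r S → NC p S →
    Row0 p M S
  oOdd : ∀ (r : ℕ) [Fact r.Prime], r ≠ p → ∀ (S : Type u) [Group S] [Finite S] [IsSimpleGroup S], IsPOmegaOddChar r S →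
    NC p S → Row0 p M S
  oPlus : ∀ (r : ℕ) [Fact r.Prime], r ≠ p → ∀ (S : Type u) [Group S] [Finite S] [IsSimpleGroup S] (F : Type) [Field F]
    [Fintype F] [CharP F r] (m : ℕ), 5 ≤ m → Nonempty (S ≃* POmega F (quadFormPlus m F)) → NC p S → Row0 p M S
  oMinus : ∀ (r : ℕ) [Fact r.Prime], r ≠ p → ∀ (S : Type u) [Group S] [Finite S] [IsSimpleGroup S], IsPOmegaMinusChar r S →
    NC p S → Row0 p M S

/-- all rows from the open ones -/
theorem rest_of (h11 : 11 ≤ p) (hM : IsPModular p M) (R : RestY.{u} p M) : RestZ.{u} p M where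
  cyc A _ _ S _ hcen hcop hs hna hd P hP t n ht h := H292.XZ.cyc_row S hM hcop hs hna hd P hP ht h
  mon S _ _ _ h hp hP := H629.XR.row_M hM hp h
  own S _ _ _ h hP := H712.XZ.row_own h11 hM h hP
  psl r _ hrp S _ _ _ h hP := H695.XP.row_psl h11 hM r hrp S h hP
  psp := R.psp
  psu r _ hrp S _ _ _ h hP := H719.XZ.row_psu h11 hM hrp h hP
  oOdd := R.oOdd
  oPlus := R.oPlus
  oPlus4 r _ hrp S _ _ _ F _ _ _ e hP := H501.XZ.row0_omegaPlus_four hrp h11 hM e hP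
  oMinus := R.oMinus
  g2 r _ hrp S _ _ _ F _ _ _ h3 e hP := H852.XG.row_G2 hrp h11 hM h3 e hP
  f4 r _ hrp S _ _ _ F _ _ _ e hP := H322.XR.row_F4 hrp h11 hM e hP
  e6 r _ hrp S _ _ _ F _ _ _ e hP := H985.XR.row_E6 h11 hM hrp S F e hP
  e7 r _ hrp S _ _ _ F _ _ _ e hP := H214.XR.row_E7 S hrp h11 hM e hP
  e8 r _ hrp S _ _ _ F _ _ _ e hP := H703.XZ.row_E8 hrp h11 hM e hP
  te6 r _ hrp S _ _ _ F _ _ _ q hq hF e hP := H482.XE.row_2E6 hrp h11 hM q hq hF e hP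
  td4 r _ hrp S _ _ _ F _ _ _ q hq hF e hP := H875.XD.row_3D4 hrp h11 hM q hq hF e hP
  tf4 S _ _ _ h hP := H97.XR.row_2F4 p S h11 hM h hP

end Cfsg.Agent.H508.XR
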